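import Cfsg.Agent.H908.E8L.BConj
import Cfsg.Agent.H183.E8F.NAct
import Cfsg.Agent.H576.E8L.Fr

/-!
# S5925: the element `z₀` (helper138)

`B ∈ SL₅(F_81)` with `Fr B = B diag(1, w, .., w⁴)`, `Mo B = B X₅`, `B^(3) = B P`; `z₀ = φ₁(B) φ₂(B)`.
-/

set_option autoImplicit false
set_option linter.style.longLine false

namespace Cfsg.Agent.H138.E8L.Zed

open Matrix Cfsg Cfsg.Lie Cfsg.Agent.ChevalleyStructure Cfsg.Agent.ChevalleyStructure.Elts
open Cfsg.Agent.H992.E8X Cfsg.Agent.H238.E8 Cfsg.Agent.H576.E8L Cfsg.Agent.H183.E8F Cfsg.Agent.H908.E8L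
open Cfsg.Agent.GpExc.Field (emb)
open Cfsg.Agent.BpExc.FamUntw (phi)

/-- `a₀ + a₁ g + a₂ g² + a₃ g³` -/
abbrev E := ℤ × ℤ × ℤ × ℤ
abbrev EM := Fin 5 → Fin 5 → E

def eadd (a b : E) : E := (a.1 + b.1, a.2.1 + b.2.1, a.2.2.1 + b.2.2.1, a.2.2.2 + b.2.2.2)

def emul (a b : E) : E :=
  let c0 := a.1*b.1
  let c1 := a.1*b.2.1 + a.2.1*b.1
  let c2 := a.1*b.2.2.1 + a.2.1*b.2.1 + a.2.2.1*b.1
  let c3 := a.1*b.2.2.2 + a.2.1*b.2.2.1 + a.2.2.1*b.2.1 + a.2.2.2*b.1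
  let c4 := a.2.1*b.2.2.2 + a.2.2.1*b.2.2.1 + a.2.2.2*b.2.1
  let c5 := a.2.2.1*b.2.2.2 + a.2.2.2*b.2.2.1
  let c6 := a.2.2.2*b.2.2.2
  (c0 + c4, c1 - c4 + c5, c2 - c5 + c6, c3 - c6)

def gp : ℕ → E
  | 0 => (1, 0, 0, 0)
  | n + 1 => emul (gp n) (0, 1, 0, 0)

def mE (A B : EM) : EM := fun i j =>
  eadd (emul (A i 0) (B 0 j)) (eadd (emul (A i 1) (B 1 j)) (eadd (emul (A i 2) (B 2 j))
    (eadd (emul (A i 3) (B 3 j)) (emul (A i 4) (B 4 j)))))

def cg (a b : E) : Prop := (a.1 - b.1) % 3 = 0 ∧ (a.2.1 - b.2.1) % 3 = 0 ∧ (a.2.2.1 - b.2.2.1) % 3 = 0 ∧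
  (a.2.2.2 - b.2.2.2) % 3 = 0

instance (a b : E) : Decidable (cg a b) := by unfold cg; infer_instance

section
variable {k : Type*} [Field k]

def ev (g : k) (a : E) : k := (a.1 : k) + a.2.1 * g + a.2.2.1 * g ^ 2 + a.2.2.2 * g ^ 3

def evM (g : k) (A : EM) : Matrix (Fin 5) (Fin 5) k := Matrix.of fun i j => ev g (A i j)

theorem ev_add (g : k) (a b : E) : ev g (eadd a b) = ev g a + ev g b := by
  simp only [ev, eadd, Int.cast_add]; ring

theorem ev_mul {g : k} (hg : g ^ 4 = 1 - g) (a b : E) : ev g (emul a b) = ev g a * ev g b := by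
  simp only [ev, emul, Int.cast_add, Int.cast_mul, Int.cast_sub]
  linear_combination (-((a.2.1*b.2.2.2 + a.2.2.1*b.2.2.1 + a.2.2.2*b.2.1 : k) + (a.2.2.1*b.2.2.2 + a.2.2.2*b.2.2.1) * g
    + (a.2.2.2*b.2.2.2) * g ^ 2)) * hg

theorem ev_gp {g : k} (hg : g ^ 4 = 1 - g) (n : ℕ) : ev g (gp n) = g ^ n := by
  induction n with
  | zero => simp [gp, ev]
  | succ n ih => rw [gp, ev_mul hg, ih]; simp [ev, pow_succ]

theorem evM_mul {g : k} (hg : g ^ 4 = 1 - g) (A B : EM) : evM g A * evM g B = evM g (mE A B) := by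
  ext i j
  rw [Matrix.mul_apply, Fin.sum_univ_five]
  simp only [evM, Matrix.of_apply, mE, ev_add, ev_mul hg]
  ring

variable [CharP k 3]

theorem cast3 {a b : ℤ} (h : (a - b) % 3 = 0) : (a : k) = (b : k) := by
  have h1 : ((a - b : ℤ) : k) = 0 := (CharP.intCast_eq_zero_iff k 3 (a - b)).2 (Int.dvd_of_emod_eq_zero h)
  rw [Int.cast_sub] at h1
  exact sub_eq_zero.1 h1

theorem ev_cg {g : k} {a b : E} (h : cg a b) : ev g a = ev g b := by
  obtain ⟨h1, h2, h3, h4⟩ := h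
  rw [ev, ev, cast3 h1, cast3 h2, cast3 h3, cast3 h4]

theorem evM_cg {g : k} {A B : EM} (h : ∀ i j, cg (A i j) (B i j)) : evM g A = evM g B := by
  ext i j
  exact ev_cg (h i j)

end

def bE : EM := ![![(0,1,-1,-1), (0,1,0,0), (0,-1,1,-1), (0,0,0,-1), (0,1,1,1)], ![(0,0,0,0), (1,1,1,1), (-1,0,0,-1), (-1,-1,1,-1), (1,1,0,0)], ![(0,0,0,0), (-1,-1,-1,0), (1,-1,0,1), (1,0,1,0), (-1,0,-1,1)], ![(0,0,0,0), (1,1,-1,0), (-1,0,-1,-1), (-1,0,1,1), (1,-1,1,0)], ![(0,0,0,0), (0,1,0,0), (0,-1,1,-1), (0,0,0,-1), (0,1,1,1)]]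
def biE : EM := ![![(0,-1,1,1), (0,0,0,0), (0,0,0,0), (0,0,0,0), (0,1,-1,-1)], ![(0,0,0,0), (0,1,0,0), (1,1,1,0), (-1,0,1,0), (-1,0,0,1)], ![(0,0,0,0), (0,-1,1,-1), (-1,1,0,-1), (1,-1,-1,0), (1,-1,0,0)], ![(0,0,0,0), (0,0,0,-1), (-1,0,-1,0), (1,0,-1,1), (1,-1,-1,-1)], ![(0,0,0,0), (0,1,1,1), (1,0,1,-1), (-1,-1,0,1), (-1,1,-1,1)]]

/-- the exponents of `X₅` -/
def xe : Fin 5 → Fin 5 → ℕ := ![![0, 48, 16, 64, 32], ![22, 0, 57, 39, 53], ![34, 13, 0, 71, 19], ![66, 11, 79, 0, 37],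
  ![38, 77, 31, 33, 0]]

def ofI (M : Fin 5 → Fin 5 → ℤ) : EM := fun i j => (M i j, 0, 0, 0)

def MoZ : Fin 5 → Fin 5 → ℤ := ![![1, 0, 1, 1, 2], ![1, 1, 2, 0, 2], ![2, 1, 1, 2, 0], ![2, 2, 1, 1, 2], ![0, 2, 2, 1, 1]]
def FrZ : Fin 5 → Fin 5 → ℤ := ![![1, 0, 0, 2, 0], ![0, 0, 2, 1, 0], ![0, 0, 1, 0, 1], ![0, 1, 0, 0, 1], ![0, 0, 0, 2, 1]]
def PZ : Fin 5 → Fin 5 → ℤ := ![![-1, 0, 0, 0, 0], ![0, 0, -1, 0, 0], ![0, 0, 0, 0, -1], ![0, -1, 0, 0, 0], ![0, 0, 0, -1, 0]]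

def cube (A : EM) : EM := fun i j => emul (A i j) (emul (A i j) (A i j))

def dgE : EM := fun i j => if i = j then gp (16 * i.val) else (0, 0, 0, 0)

theorem t_inv : ∀ i j, cg (mE bE biE i j) (ofI (fun i j => if i = j then 1 else 0) i j) := by decide +kernel
theorem t_fr : ∀ i j, cg (mE (ofI FrZ) bE i j) (mE bE dgE i j) := by decide +kernel
theorem t_mo : ∀ i j, cg (mE (ofI MoZ) bE i j) (mE bE (fun i j => gp (xe i j)) i j) := by decide +kernel
theorem t_frob : ∀ i j, cg (cube bE i j) (mE bE (ofI PZ) i j) := by decide +kernel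

theorem t_moz : Matrix.of (fun i j => ((MoZ i j : ℤ) : ZMod 3)) = MoM := by decide +kernel
theorem t_frz : Matrix.of (fun i j => ((FrZ i j : ℤ) : ZMod 3)) = FrM := by decide +kernel

section
variable {k : Type} [Field k]

/-- the matrix `X₅` -/
def X5M (g : k) : Matrix (Fin 5) (Fin 5) k := Matrix.of fun i j => g ^ xe i j

theorem evM_gp {g : k} (hg : g ^ 4 = 1 - g) : evM g (fun i j => gp (xe i j)) = X5M g := by
  ext i j
  simp only [evM, X5M, Matrix.of_apply, ev_gp hg]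

theorem ev_int (g : k) (z : ℤ) : ev g (z, 0, 0, 0) = z := by simp [ev]

theorem map_ofI (f : ZMod 3 →+* k) (g : k) (M : Fin 5 → Fin 5 → ℤ) :
    (Matrix.of (fun i j => ((M i j : ℤ) : ZMod 3))).map f = evM g (ofI M) := by
  ext i j
  simp only [evM, ofI, Matrix.of_apply, Matrix.map_apply, ev_int, map_intCast]

theorem evM_one (g : k) : evM g (ofI (fun i j => if i = j then 1 else 0)) = 1 := by
  ext i j
  simp only [evM, ofI, Matrix.of_apply, ev_int, Matrix.one_apply]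
  split_ifs <;> simp

theorem evM_cube {g : k} (hg : g ^ 4 = 1 - g) (A : EM) (i j : Fin 5) : evM g A i j ^ 3 = evM g (cube A) i j := by
  simp only [evM, cube, Matrix.of_apply, ev_mul hg]
  ring

theorem evM_dg {g : k} (hg : g ^ 4 = 1 - g) : evM g dgE = Matrix.diagonal fun i : Fin 5 => (g ^ 16) ^ i.val := by
  ext i j
  simp only [evM, dgE, Matrix.of_apply, Matrix.diagonal_apply]
  split_ifs with h
  · rw [ev_gp hg, pow_mul]
  · simp [ev]

theorem evM_P (g : k) : evM g (ofI PZ) = ((PP k : SpecialLinearGroup (Fin 5) k) : Matrix (Fin 5) (Fin 5) k) := by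
  rw [coe_PP]
  ext i j
  simp only [evM, ofI, Matrix.of_apply, ev_int]
  fin_cases i <;> fin_cases j <;> simp [PZ]

variable [CharP k 3]

theorem exists_B (f : ZMod 3 →+* k) {g : k} (hg : g ^ 4 = 1 - g) :
    ∃ B X : SpecialLinearGroup (Fin 5) k, (X : Matrix (Fin 5) (Fin 5) k) = X5M g ∧
      SpecialLinearGroup.map f Fr * B = B * Yd (wU g hg) (wU_pow hg) ∧
      SpecialLinearGroup.map f Mo * B = B * X ∧
      SpecialLinearGroup.map (iterateFrobenius k 3 1) B = B * PP k := by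
  set b : Matrix (Fin 5) (Fin 5) k := evM g bE with hb
  have h1 : b * evM g biE = 1 := by rw [hb, evM_mul hg, evM_cg t_inv, evM_one]
  have hfr : FrM.map f * b = b * (Matrix.diagonal fun i : Fin 5 => (g ^ 16) ^ i.val) := by
    rw [← t_frz, map_ofI f g, hb, evM_mul hg, evM_cg t_fr, ← evM_mul hg, evM_dg hg]
  have hmo : MoM.map f * b = b * X5M g := by
    rw [← t_moz, map_ofI f g, hb, evM_mul hg, evM_cg t_mo, ← evM_mul hg, evM_gp hg]
  have hfb : b.map (frobenius k 3) = b * ((PP k : SpecialLinearGroup (Fin 5) k) : Matrix (Fin 5) (Fin 5) k) := by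
    rw [← evM_P g, hb, evM_mul hg, ← evM_cg t_frob]
    ext i j
    rw [Matrix.map_apply, frobenius_def, evM_cube hg]
  have hd : b.det * (evM g biE).det = 1 := by rw [← Matrix.det_mul, h1, Matrix.det_one]
  have hd0 : b.det ≠ 0 := left_ne_zero_of_mul_eq_one hd
  have hd3 : b.det ^ 3 = b.det := by
    have h2 := congrArg Matrix.det hfb
    rw [Matrix.det_mul, Matrix.SpecialLinearGroup.det_coe, mul_one] at h2
    have h3 := RingHom.map_det (frobenius k 3) b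
    rw [RingHom.mapMatrix_apply] at h3
    rw [← h3, frobenius_def] at h2
    exact h2
  have hd2 : b.det ^ 2 = 1 := by
    have h4 : b.det * (b.det ^ 2 - 1) = 0 := by linear_combination hd3
    rcases mul_eq_zero.1 h4 with h | h
    · exact absurd h hd0
    · exact sub_eq_zero.1 h
  set e := b.det with he
  have hB : (e • b).det = 1 := by
    rw [Matrix.det_smul, Fintype.card_fin, ← he]
    linear_combination (e ^ 4 + e ^ 2 + 1) * hd2
  have hMo : IsUnit (e • b).det := by rw [hB]; exact isUnit_one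
  let B : SpecialLinearGroup (Fin 5) k := ⟨e • b, hB⟩
  refine ⟨B, B⁻¹ * (SpecialLinearGroup.map f Mo * B), ?_, ?_, ?_, ?_⟩
  · have e1 : ((B * (B⁻¹ * (SpecialLinearGroup.map f Mo * B)) : SpecialLinearGroup (Fin 5) k) : Matrix (Fin 5) (Fin 5) k) =
        (e • b) * X5M g := by
      rw [mul_inv_cancel_left]
      show MoM.map f * (e • b) = _
      rw [Matrix.mul_smul, hmo, Matrix.smul_mul]
    rw [Matrix.SpecialLinearGroup.coe_mul] at e1
    have e2 := congrArg (fun M => (e • b)⁻¹ * M) e1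
    rw [← Matrix.mul_assoc, ← Matrix.mul_assoc, Matrix.nonsing_inv_mul _ hMo, Matrix.one_mul] at e2
    rw [e2, Matrix.one_mul]
  · apply Subtype.ext
    show FrM.map f * (e • b) = (e • b) * ((Yd (wU g hg) (wU_pow hg) : SpecialLinearGroup (Fin 5) k) : Matrix (Fin 5) (Fin 5) k)
    have e2 : ((Yd (wU g hg) (wU_pow hg) : SpecialLinearGroup (Fin 5) k) : Matrix (Fin 5) (Fin 5) k) =
        Matrix.diagonal fun i : Fin 5 => (g ^ 16) ^ i.val := by
      show Matrix.diagonal _ = _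
      congr 1
      ext i
      fin_cases i <;> simp [dw, wU]
    rw [e2, Matrix.mul_smul, hfr, Matrix.smul_mul]
  · rw [mul_inv_cancel_left]
  · apply Subtype.ext
    show (e • b).map (iterateFrobenius k 3 1) = (e • b) * ((PP k : SpecialLinearGroup (Fin 5) k) : Matrix (Fin 5) (Fin 5) k)
    rw [Matrix.smul_mul, ← hfb]
    ext i j
    simp only [Matrix.map_apply, Matrix.smul_apply, smul_eq_mul, iterateFrobenius_def, pow_one, frobenius_def, mul_pow, hd3]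

theorem phi_emb3 [IsAlgClosed k] (f : ZMod 3 →+* k) (t : ↥(chevE8.group (ZMod 3))) :
    phi chevE8 k 3 1 (emb hE8 f t) = emb hE8 f t := by
  apply Subtype.ext
  apply Units.ext
  rw [Cfsg.Agent.BpExc.FamUntw.phi_coe, Cfsg.Agent.GpExc.Field.coe_emb]
  ext i j
  show (f _) ^ 3 ^ 1 = f _
  rw [pow_one, ← map_pow]
  congr 1
  exact ZMod.pow_card _

/-- **S5925: the element `z₀`.** -/
theorem exists_zed [IsAlgClosed k] (f : ZMod 3 →+* k) {g : k} (hg : g ^ 4 = 1 - g) :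
    ∃ (z : ↥(chevE8.group k)) (X : SpecialLinearGroup (Fin 5) k), (X : Matrix (Fin 5) (Fin 5) k) = X5M g ∧
      z⁻¹ * phi chevE8 k 3 1 z = NN k ∧
      z⁻¹ * emb hE8 f (ph2 (ZMod 3) Mo) * z = ph2 k X ∧
      z⁻¹ * emb hE8 f (ph1 (ZMod 3) Fr * ph2 (ZMod 3) Fr) * z = YY (wU g hg) (wU_pow hg) ∧
      z⁻¹ * emb hE8 f (ph2 (ZMod 3) Fr * ph1 (ZMod 3) Fr) * z = YY (wU g hg) (wU_pow hg) ∧
      ∀ t : ↥(chevE8.group (ZMod 3)), NN k * phi chevE8 k 3 1 (z⁻¹ * emb hE8 f t * z) = (z⁻¹ * emb hE8 f t * z) * NN k := by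
  obtain ⟨B, X, hX, h1, h2, h3⟩ := exists_B f hg
  have hc := fun (A C : SpecialLinearGroup (Fin 5) k) => (ph_comm k A C).eq
  have c1 : (ph1 k B * ph2 k B)⁻¹ = (ph2 k B)⁻¹ * (ph1 k B)⁻¹ := mul_inv_rev _ _
  have e1 : ph1 k (SpecialLinearGroup.map f Fr) * ph1 k B = ph1 k B * ph1 k (Yd (wU g hg) (wU_pow hg)) := by
    rw [← map_mul, h1, map_mul]
  have e2 : ph2 k (SpecialLinearGroup.map f Fr) * ph2 k B = ph2 k B * ph2 k (Yd (wU g hg) (wU_pow hg)) := by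
    rw [← map_mul, h1, map_mul]
  have e3 : ph2 k (SpecialLinearGroup.map f Mo) * ph2 k B = ph2 k B * ph2 k X := by
    rw [← map_mul, h2, map_mul]
  have hN : (ph1 k B * ph2 k B)⁻¹ * phi chevE8 k 3 1 (ph1 k B * ph2 k B) = NN k := by
    rw [inv_mul_eq_iff_eq_mul, map_mul, phi_ph1, phi_ph2, h3, map_mul, map_mul, NN]
    have := hc (PP k) B
    calc ph1 k B * ph1 k (PP k) * (ph2 k B * ph2 k (PP k)) = ph1 k B * (ph1 k (PP k) * ph2 k B) * ph2 k (PP k) := by group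
      _ = _ := by rw [this]; group
  have hY : (ph1 k B * ph2 k B)⁻¹ * emb hE8 f (ph1 (ZMod 3) Fr * ph2 (ZMod 3) Fr) * (ph1 k B * ph2 k B) =
      YY (wU g hg) (wU_pow hg) := by
    rw [mul_assoc, inv_mul_eq_iff_eq_mul, map_mul, emb_ph1, emb_ph2, YY]
    calc ph1 k (SpecialLinearGroup.map f Fr) * ph2 k (SpecialLinearGroup.map f Fr) * (ph1 k B * ph2 k B) =
        ph1 k (SpecialLinearGroup.map f Fr) * (ph2 k (SpecialLinearGroup.map f Fr) * ph1 k B) * ph2 k B := by group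
      _ = (ph1 k (SpecialLinearGroup.map f Fr) * ph1 k B) * (ph2 k (SpecialLinearGroup.map f Fr) * ph2 k B) := by
        rw [← hc B]; group
      _ = ph1 k B * (ph1 k (Yd (wU g hg) (wU_pow hg)) * ph2 k B) * ph2 k (Yd (wU g hg) (wU_pow hg)) := by
        rw [e1, e2]; group
      _ = _ := by rw [hc]; group
  refine ⟨ph1 k B * ph2 k B, X, hX, hN, ?_, hY, ?_, ?_⟩
  · rw [mul_assoc, inv_mul_eq_iff_eq_mul, emb_ph2]
    calc ph2 k (SpecialLinearGroup.map f Mo) * (ph1 k B * ph2 k B) =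
        (ph2 k (SpecialLinearGroup.map f Mo) * ph1 k B) * ph2 k B := by group
      _ = ph1 k B * (ph2 k (SpecialLinearGroup.map f Mo) * ph2 k B) := by rw [← hc B]; group
      _ = _ := by rw [e3]; group
  · have := (ph_comm (ZMod 3) Fr Fr).eq
    rw [← this]
    exact hY
  · intro t
    rw [map_mul, map_mul, map_inv, phi_emb3]
    have h4 : phi chevE8 k 3 1 (ph1 k B * ph2 k B) = (ph1 k B * ph2 k B) * NN k := by rw [← hN]; group
    rw [h4]
    group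

end

end Cfsg.Agent.H138.E8L.Zed
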